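import Groth.Agent.AlgGrp1.Geom
import Groth.Agent.AlgGrp1.AffineKernel
import Groth.Agent.AlgGrp1.NilpotentGrp
import Groth.Agent.AlgGrp1.BorelExist
import Groth.Agent.AlgGrp1.MaxTorus
import Groth.Agent.AbVarMul.KernelComp
import Groth.Agent.URad.Unip
import Groth.Agent.Hopf.Unipotent
import Groth.Agent.NeronArea.TorsCount

/-!
Isogenies of connected affine groups over an algebraically closed field: the kernel is central, and
homomorphisms from tori to unipotent groups are trivial.
-/

set_option autoImplicit false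
set_option linter.style.haveILetI false
universe u

open CategoryTheory Limits MonoidalCategory CartesianMonoidalCategory MonObj GrpObj AlgebraicGeometry
open Groth.NeronArea.FieldComponents (pp pp_comp)
open scoped TensorProduct

noncomputable section

namespace Groth.AlgGrpIsog

variable {K : Type u} [Field K]

/-- A Hopf algebra map from a unipotent Hopf algebra to a group algebra is the counit. -/
theorem eq_counit_of_unipotent {B : Type u} [CommRing B] [HopfAlgebra K B] (hB : HopfRep.IsUnipotent K B)
    {M : Type*} [CommGroup M] (φ : B →ₐc[K] MonoidAlgebra K M) (b : B) :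
    φ b = algebraMap K (MonoidAlgebra K M) (Coalgebra.counit b) := by
  classical
  obtain ⟨n, hn⟩ := Groth.ComodLib.exists_mem_fixSeries hB b
  induction n generalizing b with
  | zero =>
    obtain rfl : b = 0 := (Submodule.mem_bot K).1 hn
    simp
  | succ n ih =>
    obtain ⟨t, ht⟩ := Groth.ComodLib.mem_fixSeries_succ_iff_coact.1 hn
    have ht' : Coalgebra.comul (R := K) b = b ⊗ₜ[K] (1 : B) +
        ((Groth.ComodLib.fixSeries K B B n).subtype.rTensor B) t := by
      rw [ht]; exact (add_sub_cancel _ _).symm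
    -- the remainder lies in `1 ⊗ k[M]`
    have hrem : ∀ t, ∃ x : MonoidAlgebra K M, TensorProduct.map (φ : B →ₗ[K] MonoidAlgebra K M)
        (φ : B →ₗ[K] MonoidAlgebra K M) (((Groth.ComodLib.fixSeries K B B n).subtype.rTensor B) t) =
        (1 : MonoidAlgebra K M) ⊗ₜ[K] x := by
      intro t
      induction t using TensorProduct.induction_on with
      | zero => exact ⟨0, by simp⟩
      | tmul c a =>
        refine ⟨Coalgebra.counit (R := K) (c : B) • φ a, ?_⟩
        rw [LinearMap.rTensor_tmul, TensorProduct.map_tmul]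
        show φ (c : B) ⊗ₜ[K] φ a = _
        rw [ih _ c.2, Algebra.algebraMap_eq_smul_one, TensorProduct.smul_tmul]
      | add x y hx hy =>
        obtain ⟨a, ha⟩ := hx
        obtain ⟨c, hc⟩ := hy
        exact ⟨a + c, by rw [map_add, map_add, ha, hc, TensorProduct.tmul_add]⟩
    obtain ⟨x, hx⟩ := hrem t
    have key : Coalgebra.comul (R := K) (φ b) = φ b ⊗ₜ[K] (1 : MonoidAlgebra K M) + 1 ⊗ₜ[K] x := by
      rw [← CoalgHomClass.map_comp_comul_apply φ, ht', map_add, hx, TensorProduct.map_tmul]
      show φ b ⊗ₜ[K] φ 1 + _ = _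
      rw [map_one]
    -- coefficient at `(m, m)`
    have hcoef : ∀ m : M, m ≠ 1 → (φ b).coeff m = 0 := by
      intro m hm
      let ev : MonoidAlgebra K M →ₗ[K] K := Finsupp.lapply m ∘ₗ (MonoidAlgebra.coeffLinearEquiv K).toLinearMap
      let E : MonoidAlgebra K M ⊗[K] MonoidAlgebra K M →ₗ[K] K :=
        (TensorProduct.lid K K).toLinearMap ∘ₗ TensorProduct.map ev ev
      have hev1 : ev 1 = 0 := by
        show (1 : MonoidAlgebra K M).coeff m = 0
        rw [MonoidAlgebra.one_def, MonoidAlgebra.coeff_single, Finsupp.single_apply, if_neg (Ne.symm hm)]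
      have h2 : ∀ f : MonoidAlgebra K M, E (Coalgebra.comul (R := K) f) = f.coeff m := by
        intro f
        induction f using MonoidAlgebra.induction_linear with
        | zero => simp
        | add f g hf hg => rw [map_add, map_add, hf, hg, MonoidAlgebra.coeff_add, Finsupp.add_apply]
        | single a c =>
          rw [MonoidAlgebra.comul_single, CommSemiring.comul_apply, TensorProduct.map_tmul]
          show ev (MonoidAlgebra.single a 1) • ev (MonoidAlgebra.single a c) = _
          simp only [ev, LinearMap.coe_comp, LinearEquiv.coe_coe, Function.comp_apply, Finsupp.lapply_apply]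
          show (MonoidAlgebra.single a (1 : K)).coeff m • (MonoidAlgebra.single a c).coeff m =
            (MonoidAlgebra.single a c).coeff m
          rw [MonoidAlgebra.coeff_single, MonoidAlgebra.coeff_single, Finsupp.single_apply, Finsupp.single_apply]
          split_ifs <;> simp
      rw [← h2, key, map_add]
      show ev (φ b) • ev 1 + ev 1 • ev x = 0
      rw [hev1, smul_zero, zero_smul, add_zero]
    obtain ⟨c, hc⟩ : ∃ c : K, φ b = algebraMap K (MonoidAlgebra K M) c := by
      refine ⟨(φ b).coeff 1, MonoidAlgebra.coeff_injective (Finsupp.ext fun m => ?_)⟩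
      rw [MonoidAlgebra.coe_algebraMap]
      by_cases hm : m = 1
      · subst hm; simp
      · rw [hcoef m hm]; simp [hm]
    rw [hc]
    congr 1
    rw [← CoalgHomClass.counit_comp_apply φ b, hc, Bialgebra.counit_algebraMap]

section AlgClosed

variable [IsAlgClosed K]

local notation "pt" => (𝟙_ (Over (Spec (CommRingCat.of K))))

/-- A homomorphism from a torus to a unipotent group is trivial. -/
theorem torus_hom_eq_one {T E : Over (Spec (CommRingCat.of K))} [GrpObj T] [GrpObj E]
    (hT : Red.IsTorus T) (h : Groth.URad.IsUnip E) (g : T ⟶ E) [IsMonHom g] : g = 1 := by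
  obtain ⟨r, e, he⟩ := Groth.AlgGrp1.exists_diag_iso_of_isTorus hT
  haveI := he
  obtain ⟨B, _, _, _, f, hf, hB⟩ := h
  haveI := hf
  haveI := Groth.URad.isMonHom_inv f
  obtain ⟨φ, hφ⟩ := Groth.AlgGrp1.exists_bialgHom_of_isMonHom (e.hom ≫ g ≫ f.inv)
  have h1 : e.hom ≫ g ≫ f.inv = 1 := by
    rw [← hφ, ← MonObj.comp_one (CoactBr.pt (Algebra.ofId K (MonoidAlgebra K (Multiplicative (Fin r → ℤ))))),
      CoactBr.one_eq_pt, ← CoactBr.pt_comp]
    exact congrArg CoactBr.pt (AlgHom.ext fun b => by
      show φ b = algebraMap K _ (algebraMap K K (Coalgebra.counit b))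
      rw [Algebra.algebraMap_self, RingHom.id_apply]
      exact eq_counit_of_unipotent hB φ b)
  rw [← cancel_epi e.hom, ← cancel_mono f.inv, Category.assoc, h1, MonObj.comp_one, MonObj.one_comp]

variable {X G H : Over (Spec (CommRingCat.of K))} [GrpObj G] [GrpObj H] [LocallyOfFiniteType G.hom]
  [LocallyOfFiniteType H.hom] (f : G ⟶ H) [IsFinite f.left]

/-- A map from a connected reduced scheme into the finite kernel is constant. -/
theorem eq_one_of_comp_eq_one [LocallyOfFiniteType X.hom] [ConnectedSpace X.left] [IsReduced X.left]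
    (u : X ⟶ G) (h : u ≫ f = 1) (x₀ : pt ⟶ X) (h0 : x₀ ≫ u = 1) : u = 1 := by
  have := Groth.AlgGrp1.isSeparated_grpObj G
  let y : H.left := pp (1 : pt ⟶ H)
  have hsub : Set.range u.left.base ⊆ f.left.base ⁻¹' {y} := by
    rintro _ ⟨x, rfl⟩
    show f.left.base (u.left.base x) = (1 : pt ⟶ H).left.base (IsLocalRing.closedPoint K)
    rw [← Scheme.Hom.comp_apply, ← Over.comp_left, h,
      show (1 : X ⟶ H) = toUnit X ≫ (1 : pt ⟶ H) from (MonObj.comp_one _).symm, Over.comp_left,
      Scheme.Hom.comp_apply]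
    exact congrArg _ (@Subsingleton.elim _ (inferInstanceAs (Subsingleton ↥(Spec (CommRingCat.of K)))) _ _)
  have hd : _root_.IsDiscrete (f.left.base ⁻¹' {y}) := f.left.isDiscrete_preimage_singleton y
  have hconn : _root_.IsPreconnected (Set.range u.left.base) := isPreconnected_range u.left.continuous
  have hsing : (Set.range u.left.base).Subsingleton :=
    (_root_.IsPreconnected.isDiscrete_iff_subsingleton hconn).1 (hd.mono hsub)
  refine Groth.AbVarMul.eq_of_points fun z => ?_
  rw [MonObj.comp_one, ← h0]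
  exact Groth.AbVarMul.point_ext' (hsing ⟨pp z, (pp_comp z u).symm⟩ ⟨pp x₀, (pp_comp x₀ u).symm⟩)

variable [IsMonHom f] [Smooth G.hom] [ConnectedSpace G.left]

/-- The kernel of an isogeny of connected groups is central on rational points. -/
theorem mul_comm_of_comp_eq_one (z g : pt ⟶ G) (hz : z ≫ f = 1) : g * z = z * g := by
  haveI : IsReduced G.left := Groth.AlgGrp1.isReduced_of_smooth G.hom
  let zG : G ⟶ G := toUnit G ≫ z
  have h1 : (𝟙 G * zG * (𝟙 G)⁻¹ * zG⁻¹) = 1 := by
    refine eq_one_of_comp_eq_one f _ ?_ (1 : pt ⟶ G) ?_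
    · simp only [MonObj.mul_comp, GrpObj.inv_comp, Category.id_comp, zG, Category.assoc, hz, MonObj.comp_one]
      group
    · simp only [MonObj.comp_mul, GrpObj.comp_inv, Category.comp_id, zG, ← Category.assoc,
        toUnit_unique ((1 : pt ⟶ G) ≫ toUnit G) (𝟙 pt), Category.id_comp]
      group
  have h2 := congrArg (g ≫ ·) h1
  simp only [MonObj.comp_mul, GrpObj.comp_inv, Category.comp_id, MonObj.comp_one, zG, ← Category.assoc,
    toUnit_unique (g ≫ toUnit G) (𝟙 pt), Category.id_comp] at h2
  rw [mul_inv_eq_one, mul_inv_eq_iff_eq_mul] at h2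
  exact h2

/-- Commutators of rational points lie in the finite kernel only if trivial. -/
theorem mul_comm_of_comp_comm (a b : pt ⟶ G)
    (hc : ∀ c : pt ⟶ G, ∀ X : Over (Spec (CommRingCat.of K)), ∀ v : X ⟶ H,
      v * (toUnit X ≫ c ≫ f) = (toUnit X ≫ c ≫ f) * v) : a * b = b * a := by
  haveI : IsReduced G.left := Groth.AlgGrp1.isReduced_of_smooth G.hom
  let bG : G ⟶ G := toUnit G ≫ b
  have h1 : (𝟙 G * bG * (𝟙 G)⁻¹ * bG⁻¹) = 1 := by
    refine eq_one_of_comp_eq_one f _ ?_ (1 : pt ⟶ G) ?_
    · simp only [MonObj.mul_comp, GrpObj.inv_comp, Category.id_comp, bG, Category.assoc]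
      rw [hc b G f]
      group
    · simp only [MonObj.comp_mul, GrpObj.comp_inv, Category.comp_id, bG, ← Category.assoc,
        toUnit_unique ((1 : pt ⟶ G) ≫ toUnit G) (𝟙 pt), Category.id_comp]
      group
  have h2 := congrArg (a ≫ ·) h1
  simp only [MonObj.comp_mul, GrpObj.comp_inv, Category.comp_id, MonObj.comp_one, bG, ← Category.assoc,
    toUnit_unique (a ≫ toUnit G) (𝟙 pt), Category.id_comp] at h2
  rw [mul_inv_eq_one, mul_inv_eq_iff_eq_mul] at h2
  exact h2

variable [QuasiCompact G.hom] [Smooth H.hom] [QuasiCompact H.hom] [ConnectedSpace H.left]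
  [Surjective f.left]

/-- The homomorphism on rational points. -/
def ptsHom : (pt ⟶ G) →* (pt ⟶ H) := MonoidHom.mk' (· ≫ f) fun a b => MonObj.mul_comp a b f

theorem ptsHom_surjective : Function.Surjective (ptsHom f) := by
  intro y
  obtain ⟨x, hx⟩ := Groth.NeronArea.TorsCount.surjective_comp_pts f K (pt).hom y
  exact ⟨x, hx⟩

theorem ker_le_center : (ptsHom f).ker ≤ Subgroup.center (pt ⟶ G) := fun z hz =>
  Subgroup.mem_center_iff.2 fun g => mul_comm_of_comp_eq_one f z g hz

include f in
theorem isSolvable_iff : Group.IsSolvable (pt ⟶ G) ↔ Group.IsSolvable (pt ⟶ H) := by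
  refine ⟨fun h => Group.isSolvable_of_surjective (ptsHom_surjective f), fun h => ?_⟩
  haveI : Group.IsSolvable (ptsHom f).ker := Group.isSolvable_of_comm fun a b =>
    Subtype.ext ((Subgroup.mem_center_iff.1 (ker_le_center f a.2) b.1).symm)
  exact Group.isSolvable_of_ker_le_range (ptsHom f).ker.subtype (ptsHom f) (Subgroup.range_subtype _).ge

include f in
theorem isNilpotent_iff : Group.IsNilpotent (pt ⟶ G) ↔ Group.IsNilpotent (pt ⟶ H) :=
  ⟨fun _ => Group.nilpotent_of_surjective (ptsHom f) (ptsHom_surjective f),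
    fun _ => Subgroup.isNilpotent_of_ker_le_center (ptsHom f) (ker_le_center f)⟩

variable [IsAffine G.left] [IsAffine H.left]

include f in
theorem hasNoSubtorus_iff : Red.HasNoSubtorus K G ↔ Red.HasNoSubtorus K H := by
  constructor
  · intro h
    haveI : IsReduced H.left := Groth.AlgGrp1.isReduced_of_smooth H.hom
    haveI : Flat f.left := Groth.AlgGrp1.flat_of_surjective_hom f
    exact ((Groth.URad.isUnip_of_hasNoSubtorus G h).of_quotient f).hasNoSubtorus
  · intro h T _ j _ _ hT
    haveI : IsMonHom (j ≫ f) := inferInstanceAs (IsMonHom (_ ≫ _))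
    have h1 : j ≫ f = 1 := torus_hom_eq_one hT (Groth.URad.isUnip_of_hasNoSubtorus H h) _
    obtain ⟨r, e, he⟩ := Groth.AlgGrp1.exists_diag_iso_of_isTorus hT
    obtain ⟨hTa, hTs, hTc⟩ := Groth.AlgGrp1.isAffine_smooth_connected_of_isTorus hT
    haveI : IsReduced T.left := Groth.AlgGrp1.isReduced_of_smooth T.hom
    have h2 : j = 1 := eq_one_of_comp_eq_one f j h1 1 (by rw [MonObj.one_comp])
    have h3 : 𝟙 T = 1 := by rw [← cancel_mono j, MonObj.one_comp, Category.id_comp, h2]
    show IsIso T.hom
    refine ⟨η[T].left, ?_, Over.w η[T]⟩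
    exact (congrArg CommaMorphism.left h3).symm

end AlgClosed

end Groth.AlgGrpIsog
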