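import Groth.Agent.AlgGrpIsog.Geom
import Groth.Agent.S12500
import Groth.Agent.Misc1.Unip.Primitive
import Groth.Agent.Misc1.Unip.MultType

/-!
The additive group is unipotent and homomorphisms from unipotent groups to tori are trivial.
-/

set_option autoImplicit false
set_option linter.style.haveILetI false
universe u

open CategoryTheory Limits MonoidalCategory CartesianMonoidalCategory MonObj GrpObj AlgebraicGeometry
open scoped TensorProduct

noncomputable section

namespace Groth.AlgGrpIsog

variable {k : Type u} [Field k]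

open Groth.ComodLib in
/-- The symmetric algebra on one generator is unipotent. -/
theorem isUnipotent_symmetricAlgebra : HopfRep.IsUnipotent k (SymmetricAlgebra k k) := by
  refine Groth.Misc1.Unip.isUnipotent_of_exhaustive fun s => ?_
  let a : SymmetricAlgebra k k := SymmetricAlgebra.ι k k 1
  let S := fun n => fixSeries k (SymmetricAlgebra k k) (SymmetricAlgebra k k) n
  have hmono : Monotone S := fun i j h => Groth.ComodLib.fixSeries_mono h
  have hpow : ∀ n, a ^ n ∈ S (n + 1) := by
    intro n
    induction n using Nat.strong_induction_on with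
    | _ n ih =>
      rw [show S (n + 1) = fixSeries k (SymmetricAlgebra k k) (SymmetricAlgebra k k) (n + 1) from rfl,
        mem_fixSeries_succ_iff_coact]
      let W : Submodule k (SymmetricAlgebra k k ⊗[k] SymmetricAlgebra k k) :=
        LinearMap.range ((S n).subtype.rTensor (SymmetricAlgebra k k))
      change Coalgebra.comul (R := k) (a ^ n) - (a ^ n) ⊗ₜ[k] 1 ∈ W
      rw [← Bialgebra.comulAlgHom_apply, map_pow, Bialgebra.comulAlgHom_apply,
        show Coalgebra.comul (R := k) a = a ⊗ₜ[k] 1 + 1 ⊗ₜ[k] a by simp [a, SymmetricAlgebra.comul_ι],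
        add_pow, Finset.sum_range_succ]
      simp only [Algebra.TensorProduct.tmul_pow, one_pow, Algebra.TensorProduct.tmul_mul_tmul, _root_.mul_one,
        Nat.sub_self, pow_zero, Nat.choose_self, Nat.cast_one, _root_.one_mul, add_sub_cancel_right]
      refine Submodule.sum_mem _ fun i hi => ?_
      have hmem : a ^ i ∈ S n := hmono (Finset.mem_range.1 hi) (ih i (Finset.mem_range.1 hi))
      have h1 : (a ^ i) ⊗ₜ[k] (a ^ (n - i)) ∈ W := ⟨⟨a ^ i, hmem⟩ ⊗ₜ[k] (a ^ (n - i)), rfl⟩
      rw [← nsmul_eq_mul']
      exact nsmul_mem h1 _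
  let P : Polynomial k →ₐ[k] SymmetricAlgebra k k := Polynomial.aeval a
  obtain ⟨p, rfl⟩ : ∃ p, P p = s := by
    let Φ : SymmetricAlgebra k k →ₐ[k] Polynomial k :=
      SymmetricAlgebra.lift ((LinearMap.id : k →ₗ[k] k).smulRight (Polynomial.X : Polynomial k))
    exact ⟨Φ s, DFunLike.congr_fun (show P.comp Φ = AlgHom.id k _ from
      SymmetricAlgebra.algHom_ext (LinearMap.ext_ring (by simp [P, Φ, a]))) s⟩
  refine ⟨p.natDegree + 1, ?_⟩
  show Polynomial.aeval a p ∈ _
  rw [Polynomial.aeval_eq_sum_range]
  refine Submodule.sum_mem _ fun i hi => ?_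
  exact Submodule.smul_mem _ _ (hmono (Finset.mem_range.1 hi) (hpow i))

/-- The additive group is unipotent. -/
theorem isUnip_Ga : Groth.URad.IsUnip (Red.Ga (Spec (CommRingCat.of k))) := by
  obtain ⟨i, hi⟩ := Groth.Agent.S12500.iso_Ga (BialgEquiv.refl k (SymmetricAlgebra k k))
  exact ⟨_, inferInstance, inferInstance, inferInstance, i, hi, isUnipotent_symmetricAlgebra⟩

/-- A homomorphism from a unipotent group to a torus is trivial. -/
theorem hom_torus_eq_one [IsAlgClosed k] {U T : Over (Spec (CommRingCat.of k))} [GrpObj U] [GrpObj T]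
    (h : Groth.URad.IsUnip U) (hT : Red.IsTorus T) (g : U ⟶ T) [IsMonHom g] : g = 1 := by
  obtain ⟨r, e, he⟩ := Groth.AlgGrp1.exists_diag_iso_of_isTorus hT
  haveI := he
  obtain ⟨B, _, _, _, f, hf, hB⟩ := h
  haveI := hf
  haveI := Groth.URad.isMonHom_inv e
  obtain ⟨φ, hφ⟩ := Groth.AlgGrp1.exists_bialgHom_of_isMonHom (f.hom ≫ g ≫ e.inv)
  have h1 : f.hom ≫ g ≫ e.inv = 1 := by
    rw [← hφ, ← MonObj.comp_one (CoactBr.pt (Algebra.ofId k B)), CoactBr.one_eq_pt, ← CoactBr.pt_comp]
    refine congrArg CoactBr.pt (AlgHom.toLinearMap_injective (MonoidAlgebra.lhom_ext' fun m => LinearMap.ext_ring ?_))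
    have hg : φ (MonoidAlgebra.single m 1) = 1 :=
      Groth.Misc1.Unip.groupLike_eq_one (Groth.ComodLib.exists_mem_fixSeries hB)
        (IsGroupLikeElem.map φ (MonoidAlgebra.isGroupLikeElem_single_one m))
    show φ (MonoidAlgebra.single m 1) =
      algebraMap k B (algebraMap k k (Coalgebra.counit (MonoidAlgebra.single m (1 : k))))
    rw [hg, (MonoidAlgebra.isGroupLikeElem_single_one m).counit_eq_one, map_one, map_one]
  rw [← cancel_epi f.hom, ← cancel_mono e.inv, Category.assoc, h1, MonObj.comp_one, MonObj.one_comp]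

/-- Groups with a composition series of additive groups are unipotent. -/
theorem isUnip_of_compositionSeries {U : Over (Spec (CommRingCat.of k))} [GrpObj U] [LocallyOfFiniteType U.hom]
    [QuasiCompact U.hom] {n : ℕ} (Us : Fin (n + 1) → Over (Spec (CommRingCat.of k))) [∀ i, GrpObj (Us i)]
    (h0 : Red.IsTrivialGrp (Us 0)) (e : Us (Fin.last n) ≅ U) [IsMonHom e.hom]
    (incl : ∀ i : Fin n, Us i.castSucc ⟶ Us i.succ) [∀ i, IsMonHom (incl i)]
    [∀ i, IsClosedImmersion (incl i).left]
    (quot : ∀ i : Fin n, Us i.succ ⟶ Red.Ga (Spec (CommRingCat.of k))) [∀ i, IsMonHom (quot i)]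
    [∀ i, Surjective (quot i).left] [∀ i, Flat (quot i).left]
    (hker : ∀ i : Fin n, AlgGrp.IsKernel (incl i) (quot i)) : Groth.URad.IsUnip U := by
  have hft : ∀ i, LocallyOfFiniteType (Us i).hom ∧ QuasiCompact (Us i).hom := by
    intro i
    induction i using Fin.reverseInduction with
    | last =>
      have : IsIso e.hom.left := inferInstanceAs (IsIso ((Over.forget _).map e.hom))
      rw [← Over.w e.hom]
      exact ⟨inferInstance, inferInstance⟩
    | cast i ih =>
      have := ih.1; have := ih.2
      rw [← Over.w (incl i)]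
      exact ⟨inferInstance, inferInstance⟩
  obtain ⟨iGa, hiGa⟩ := Groth.Agent.S12500.iso_Ga (BialgEquiv.refl k (SymmetricAlgebra k k))
  have hG : LocallyOfFiniteType (Red.Ga (Spec (CommRingCat.of k))).hom ∧
      QuasiCompact (Red.Ga (Spec (CommRingCat.of k))).hom := by
    have : IsIso iGa.inv.left := inferInstanceAs (IsIso ((Over.forget _).map iGa.inv))
    have h1 : LocallyOfFiniteType (CoactBr.sp k (SymmetricAlgebra k k)).hom := by
      have : Algebra.FiniteType k (SymmetricAlgebra k k) := by infer_instance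
      exact (HasRingHomProperty.Spec_iff (P := @LocallyOfFiniteType)).2
        (RingHom.finiteType_algebraMap.2 this)
    have h2 : QuasiCompact (CoactBr.sp k (SymmetricAlgebra k k)).hom :=
      inferInstanceAs (QuasiCompact (Spec.map _))
    rw [← Over.w iGa.inv]
    exact ⟨inferInstance, inferInstance⟩
  have := hG.1; have := hG.2
  have key : ∀ i, Groth.URad.IsUnip (Us i) := by
    intro i
    induction i using Fin.induction with
    | zero =>
      haveI : IsIso (Us 0).hom := h0
      haveI : IsIso (CoactBr.sp k k).hom := by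
        show IsIso (Spec.map _)
        rw [Algebra.algebraMap_self, show CommRingCat.ofHom (RingHom.id k) = 𝟙 (CommRingCat.of k) from rfl,
          Spec.map_id]
        infer_instance
      let j : CoactBr.sp k k ≅ Us 0 := Over.isoMk
        (asIso (CoactBr.sp k k).hom ≪≫ (asIso (Us 0).hom).symm) (by simp)
      haveI : IsMonHom j.hom := by
        haveI : Subsingleton ((CoactBr.sp k k) ⟶ Us 0) :=
          ⟨fun a b => Over.OverMorphism.ext (by rw [← cancel_mono (Us 0).hom, Over.w, Over.w])⟩
        haveI : ∀ X : Over (Spec (CommRingCat.of k)), Subsingleton (X ⟶ Us 0) := fun X =>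
          ⟨fun a b => Over.OverMorphism.ext (by rw [← cancel_mono (Us 0).hom, Over.w, Over.w])⟩
        exact ⟨Subsingleton.elim _ _, Subsingleton.elim _ _⟩
      exact Groth.URad.IsUnip.of_iso j Groth.URad.isUnip_sp_self
    | succ i ih =>
      have := (hft i.castSucc).1; have := (hft i.castSucc).2
      have := (hft i.succ).1; have := (hft i.succ).2
      exact Groth.URad.IsUnip.of_extension (incl i) (quot i) (hker i) ih isUnip_Ga
  exact Groth.URad.IsUnip.of_iso e (key _)

end Groth.AlgGrpIsog
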