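import Groth.Agent.AlgGrpIsog.Geom
import Groth.Agent.GrpschAbsch.BcPoint
import Groth.Agent.AlgGrp1.CartanField

/-!
Isogenies preserve and reflect solvability, nilpotence and commutativity.
-/

set_option autoImplicit false
set_option linter.style.haveILetI false
universe u

open CategoryTheory Limits MonoidalCategory CartesianMonoidalCategory MonObj GrpObj AlgebraicGeometry

noncomputable section

namespace Groth.AlgGrpIsog

variable {F : Type u} [Field F]

local notation "φ̄" => Spec.map (CommRingCat.ofHom (algebraMap F (AlgebraicClosure F)))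
local notation "pt" => (𝟙_ (Over (Spec (CommRingCat.of (AlgebraicClosure F)))))

/-- Rational points as morphisms out of the unit object. -/
def specSelfEquiv (X : Over (Spec (CommRingCat.of (AlgebraicClosure F)))) [GrpObj X] :
    (pt ⟶ X) ≃* (Groth.AlgGrp1.specAlg (AlgebraicClosure F) (AlgebraicClosure F) ⟶ X) :=
  MulEquiv.mk' (Over.isoMk (Iso.refl _) (by
    show 𝟙 _ ≫ Spec.map _ = 𝟙 _
    rw [Category.id_comp, Algebra.algebraMap_self]
    exact Spec.map_id _) : pt ≅ Groth.AlgGrp1.specAlg (AlgebraicClosure F) (AlgebraicClosure F)).homFromEquiv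
    fun x y => by
      simp only [Iso.homFromEquiv_apply]
      exact MonObj.comp_mul _ x y

variable (G : Over (Spec (CommRingCat.of F))) [GrpObj G] [Smooth G.hom] [QuasiCompact G.hom]
  [IsAffine G.left] [ConnectedSpace ↥G.left]

theorem bc_props : Smooth (Red.bc φ̄ G).hom ∧ QuasiCompact (Red.bc φ̄ G).hom ∧ IsAffine (Red.bc φ̄ G).left ∧
    ConnectedSpace ↥(Red.bc φ̄ G).left :=
  ⟨inferInstanceAs (Smooth (pullback.snd G.hom φ̄)), inferInstanceAs (QuasiCompact (pullback.snd G.hom φ̄)),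
    inferInstanceAs (IsAffine (pullback G.hom φ̄)),
    Groth.AlgGrp1.connectedSpace_pullback_of_isIntegral G.hom η[G].left (Over.w η[G])⟩

/-- Points of the base change as points with values in the algebraic closure. -/
def ptsEmb : (pt ⟶ Red.bc φ̄ G) →* (Over.mk ((pt).hom ≫ φ̄) ⟶ G) :=
  MonoidHom.mk' (Groth.GrpschAbsch.bcPt φ̄) fun a b => Groth.GrpschAbsch.bcPt_mul φ̄ a b

theorem ptsEmb_injective : Function.Injective (ptsEmb G) := fun _ _ h => Groth.GrpschAbsch.bcPt_injective φ̄ h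

/-- Pulling back points. -/
def bcHom (X : Over (Spec (CommRingCat.of F))) : (X ⟶ G) →* (Red.bc φ̄ X ⟶ Red.bc φ̄ G) :=
  MonoidHom.mk' (fun m => (Over.pullback φ̄).map m) fun _ _ => Functor.map_mul _ _ _

theorem bcHom_injective (X : Over (Spec (CommRingCat.of F))) : Function.Injective (bcHom G X) :=
  Groth.AlgGrp1.pullback_map_injective φ̄

theorem isSolvableGrp_iff : Red.IsSolvableGrp G ↔ Group.IsSolvable (pt ⟶ Red.bc φ̄ G) := by
  constructor
  · rintro ⟨n, hn⟩
    refine ⟨⟨n, ?_⟩⟩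
    refine (Subgroup.map_eq_bot_iff_of_injective _ (ptsEmb_injective G)).1 (eq_bot_iff.2 ?_)
    exact (map_derivedSeries_le_derivedSeries _ n).trans (hn _).le
  · intro h
    obtain ⟨n, hn⟩ := h.solvable
    obtain ⟨h1, h2, h3, h4⟩ := bc_props G
    obtain ⟨m, hm⟩ := Groth.AlgGrp1.isSolvableGrp_of_derivedSeries n (Red.bc φ̄ G) hn
    exact ⟨m, fun X => (Subgroup.map_eq_bot_iff_of_injective _ (bcHom_injective G X)).1
      (eq_bot_iff.2 ((map_derivedSeries_le_derivedSeries _ m).trans (hm _).le))⟩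

theorem isNilpotentGrp_iff : AGF.IsNilpotentGrp G ↔ Group.IsNilpotent (pt ⟶ Red.bc φ̄ G) := by
  constructor
  · rintro ⟨n, hn⟩
    refine ⟨⟨n, eq_top_iff.2 fun x _ => ?_⟩⟩
    exact Groth.AlgGrp1.mem_ucs_of_injective (ptsEmb G) (ptsEmb_injective G) n x (by rw [hn]; trivial)
  · intro h
    obtain ⟨h1, h2, h3, h4⟩ := bc_props G
    haveI := Groth.AlgGrp1.isSeparated_grpObj (Red.bc φ̄ G)
    refine Groth.AlgGrp1.isNilpotentGrp_of_bc φ̄ G (Groth.AlgGrp1.isNilpotentGrp_of_points _ ?_)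
    exact Group.nilpotent_of_mulEquiv (specSelfEquiv (Red.bc φ̄ G))

theorem isCommMonObj_iff : IsCommMonObj G ↔ ∀ a b : pt ⟶ Red.bc φ̄ G, a * b = b * a := by
  constructor
  · intro h a b
    apply ptsEmb_injective G
    rw [map_mul, map_mul, _root_.mul_comm]
  · intro h
    obtain ⟨h1, h2, h3, h4⟩ := bc_props G
    haveI := Groth.AlgGrp1.isSeparated_grpObj (Red.bc φ̄ G)
    haveI := Groth.NeronArea.TorsCount.isCommMonObj_of_pts (Red.bc φ̄ G) h
    rw [isCommMonObj_iff_isMulCommutative]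
    exact fun X => ⟨⟨fun a b => bcHom_injective G X (by rw [map_mul, map_mul, _root_.mul_comm])⟩⟩

/-- Isogenies preserve and reflect unipotence, solvability, nilpotence and commutativity. -/
theorem isogeny_iff (H : Over (Spec (CommRingCat.of F))) [GrpObj H] [Smooth H.hom] [QuasiCompact H.hom]
    [IsAffine H.left] [ConnectedSpace ↥H.left] (f : G ⟶ H) [IsMonHom f] [Surjective f.left] [IsFinite f.left] :
    (Red.HasNoSubtorus (AlgebraicClosure F) (Red.bc φ̄ G) ↔
      Red.HasNoSubtorus (AlgebraicClosure F) (Red.bc φ̄ H)) ∧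
    (Red.IsSolvableGrp G ↔ Red.IsSolvableGrp H) ∧ (AGF.IsNilpotentGrp G ↔ AGF.IsNilpotentGrp H) ∧
    (IsCommMonObj G ↔ IsCommMonObj H) := by
  obtain ⟨hGs, hGq, hGa, hGc⟩ := bc_props G
  obtain ⟨hHs, hHq, hHa, hHc⟩ := bc_props H
  let f' : Red.bc φ̄ G ⟶ Red.bc φ̄ H := (Over.pullback φ̄).map f
  haveI : IsMonHom f' := Groth.Abvar.isMonHom_map (f := φ̄) f
  have sq := Groth.AlgGrp1.isPullback_bc_map φ̄ f
  haveI : Surjective f'.left := MorphismProperty.of_isPullback sq ‹Surjective f.left›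
  haveI : IsFinite f'.left := MorphismProperty.of_isPullback sq ‹IsFinite f.left›
  refine ⟨hasNoSubtorus_iff f', ?_, ?_, ?_⟩
  · rw [isSolvableGrp_iff G, isSolvableGrp_iff H, isSolvable_iff f']
  · rw [isNilpotentGrp_iff G, isNilpotentGrp_iff H, isNilpotent_iff f']
  · rw [isCommMonObj_iff G, isCommMonObj_iff H]
    constructor
    · intro h a b
      obtain ⟨x, rfl⟩ := ptsHom_surjective f' a
      obtain ⟨y, rfl⟩ := ptsHom_surjective f' b
      rw [← map_mul, h, map_mul]
    · intro h a b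
      haveI := Groth.AlgGrp1.isSeparated_grpObj (Red.bc φ̄ H)
      haveI := Groth.NeronArea.TorsCount.isCommMonObj_of_pts (Red.bc φ̄ H) h
      exact mul_comm_of_comp_comm f' a b fun c X v => _root_.mul_comm _ _

end Groth.AlgGrpIsog
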