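import Groth.Agent.GrpschAbsch.GrpDim
import Groth.Agent.GrpschAbsch.NeutralSet
import Groth.Agent.AlgGrp1.Geom

/-!
The identity component of a group scheme locally of finite type over any field is open and irreducible.
-/

set_option autoImplicit false
universe u

open CategoryTheory Limits MonoidalCategory CartesianMonoidalCategory MonObj GrpObj AlgebraicGeometry

noncomputable section

namespace Groth.AlgGrpIsog

variable {k : Type u} [Field k]

/-- The identity component is open and irreducible. -/
theorem isOpen_isIrreducible_component (G : Over (Spec (CommRingCat.of k))) [GrpObj G] [LocallyOfFiniteType G.hom]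
    (t : ↥((𝟙_ (Over (Spec (CommRingCat.of k)))).left)) :
    IsOpen (connectedComponent (η[G].left.base t)) ∧ IsIrreducible (connectedComponent (η[G].left.base t)) := by
  rw [show t = IsLocalRing.closedPoint k from Subsingleton.elim (α := ↥(Spec (CommRingCat.of k))) _ _]
  obtain ⟨N, _, i, hi, hio, hr, hc⟩ := Groth.GrpschAbsch.NeutralSet.exists_neutral_openSubgroup G
  haveI := hio; haveI := hc
  refine ⟨hr ▸ i.left.isOpenEmbedding.isOpen_range, ?_⟩
  suffices IrreducibleSpace N.left by
    rw [← hr, ← Set.image_univ]
    exact (IrreducibleSpace.isIrreducible_univ _).image _ i.left.continuous.continuousOn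
  haveI : LocallyOfFiniteType N.hom := by rw [← Over.w i]; infer_instance
  let g := Spec.map (CommRingCat.ofHom (algebraMap k (AlgebraicClosure k)))
  haveI := Groth.AlgGrp1.geometricallyConnected_of_point N.hom η[N].left (Over.w η[N])
  letI : GrpObj (Over.mk N.hom) := ‹GrpObj N›
  letI : GrpObj (Over.mk (pullback.snd N.hom g)) := Over.grpObjMkPullbackSnd
  haveI : LocallyOfFiniteType (Over.mk (pullback.snd N.hom g)).hom :=
    inferInstanceAs (LocallyOfFiniteType (pullback.snd _ _))
  haveI : ConnectedSpace (Over.mk (pullback.snd N.hom g)).left :=
    inferInstanceAs (ConnectedSpace ↥(pullback N.hom g))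
  haveI : IrreducibleSpace ↥(pullback N.hom g) :=
    Groth.GrpschAbsch.irreducibleSpace_of_connected_lft (Over.mk (pullback.snd N.hom g))
  haveI : Surjective g := inferInstance
  rw [irreducibleSpace_def]
  change IsIrreducible (Set.univ : Set N.left)
  rw [← (pullback.fst N.hom g).surjective.range_eq, ← Set.image_univ]
  exact (IrreducibleSpace.isIrreducible_univ _).image _ (pullback.fst N.hom g).continuous.continuousOn

end Groth.AlgGrpIsog
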