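import Groth.Agent.AlgGrpIsog.Geom
import Groth.Agent.AlgGrp1.ImageHom
import Groth.Agent.AlgGrp1.AffineCrit
import Groth.Agent.AlgGrp1.OpenSub
import Groth.Agent.Agf.ClosedSubgroup
import Groth.Agent.Agf.SubobjGrp
import Groth.Agent.GrpschAbsch.NeutralSet
import Groth.Agent.FlatMor2.Chevalley.Noetherian
import Groth.Agent.AlgSpBasic.DimIntegral

/-!
Smooth connected subgroups correspond up to isogeny along an isogeny, with the same dimension.
-/

set_option autoImplicit false
set_option linter.style.haveILetI false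
universe u

open CategoryTheory Limits MonoidalCategory CartesianMonoidalCategory MonObj GrpObj AlgebraicGeometry

noncomputable section

namespace Groth.AlgGrpIsog

variable {K : Type u} [Field K]

/-- Finite surjective morphisms preserve the dimension. -/
theorem topologicalKrullDim_eq_of_finite {X Y : Scheme.{u}} (g : X ⟶ Y) [IsFinite g] [Surjective g] :
    topologicalKrullDim ↥X = topologicalKrullDim ↥Y :=
  le_antisymm (Groth.AlgSpBasic.topologicalKrullDim_le_of_strictMono g (Groth.AlgSpBasic.strictMono_of_integral g))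
    (Groth.AlgSpBasic.topologicalKrullDim_le_of_integral_surjective g)

variable [IsAlgClosed K] {G H : Over (Spec (CommRingCat.of K))} [GrpObj G] [GrpObj H]
  [LocallyOfFiniteType G.hom] [QuasiCompact G.hom] [LocallyOfFiniteType H.hom] [QuasiCompact H.hom]
  (f : G ⟶ H) [IsMonHom f] [IsFinite f.left]

include f in
/-- The image of a smooth connected subgroup. -/
theorem exists_image_sub {U : Over (Spec (CommRingCat.of K))} [GrpObj U] [Smooth U.hom] [ConnectedSpace U.left]
    (i : U ⟶ G) [IsMonHom i] [IsClosedImmersion i.left] :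
    ∃ (V : Over (Spec (CommRingCat.of K))) (_ : GrpObj V) (j : V ⟶ H) (g : U ⟶ V),
      IsMonHom j ∧ IsClosedImmersion j.left ∧ Smooth V.hom ∧ QuasiCompact V.hom ∧ ConnectedSpace ↥V.left ∧
      IsMonHom g ∧ IsFinite g.left ∧ Surjective g.left ∧ (IsAffine U.left → IsAffine V.left) := by
  have : QuasiCompact U.hom := by rw [← Over.w i]; infer_instance
  have : IsMonHom (i ≫ f) := inferInstanceAs (IsMonHom (_ ≫ _))
  obtain ⟨V, _, j, g, hj, hjc, hg, hlft, hqc, hfl, hsur, he⟩ := Groth.AlgGrp1.exists_image_hom (i ≫ f)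
  haveI := hjc
  have : IsFinite g.left := by
    have : IsFinite (g.left ≫ j.left) := by rw [← Over.comp_left, he, Over.comp_left]; infer_instance
    exact IsFinite.of_comp g.left j.left
  refine ⟨V, inferInstance, j, g, hj, hjc, Groth.AlgGrp1.smooth_of_flat_surjective_hom g, hqc,
    Groth.AlgGrp1.connectedSpace_of_surjective g, hg, this, hsur, fun hU => ?_⟩
  have := LocallyOfFiniteType.isLocallyNoetherian V.hom
  have : CompactSpace V.left := QuasiCompact.compactSpace_of_compactSpace V.hom
  have : IsNoetherian V.left := ⟨⟩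
  exact Groth.FlatMor2.Chevalley.isAffine_of_finite_surjective g.left

include f in
/-- The reduced identity component of the preimage of a smooth connected subgroup. -/
theorem exists_preimage_sub [Surjective f.left] {V : Over (Spec (CommRingCat.of K))} [GrpObj V] [Smooth V.hom]
    [ConnectedSpace V.left] (j : V ⟶ H) [IsMonHom j] [IsClosedImmersion j.left] :
    ∃ (U : Over (Spec (CommRingCat.of K))) (_ : GrpObj U) (i : U ⟶ G) (g : U ⟶ V),
      IsMonHom i ∧ IsClosedImmersion i.left ∧ Smooth U.hom ∧ QuasiCompact U.hom ∧ ConnectedSpace ↥U.left ∧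
      IsMonHom g ∧ IsFinite g.left ∧ Surjective g.left ∧ (IsAffine V.left → IsAffine U.left) := by
  have : Mono j := Over.mono_of_mono_left j
  have : QuasiCompact V.hom := by rw [← Over.w j]; infer_instance
  -- the preimage
  let P := pullback f j
  let p : P ⟶ G := pullback.fst f j
  let d : P ⟶ V := pullback.snd f j
  have sq : IsPullback p.left d.left f.left j.left := (IsPullback.of_hasPullback f j).map (Over.forget _)
  have : IsClosedImmersion p.left := MorphismProperty.of_isPullback sq.flip ‹IsClosedImmersion j.left›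
  have : IsFinite d.left := MorphismProperty.of_isPullback sq ‹IsFinite f.left›
  have : Surjective d.left := MorphismProperty.of_isPullback sq ‹Surjective f.left›
  have : Mono p := Over.mono_of_mono_left p
  obtain ⟨_, hp⟩ := Groth.Agf.exists_grpObj_of_subgroup p (fun T x => ∃ z : T ⟶ V, x ≫ f = z ≫ j)
    (fun T x => ⟨fun ⟨e, he⟩ => ⟨e ≫ d, by rw [← he, Category.assoc, Category.assoc, pullback.condition]⟩,
      fun ⟨z, hz⟩ => ⟨pullback.lift x z hz, pullback.lift_fst _ _ _⟩⟩)
    (fun T => ⟨1, by rw [MonObj.one_comp, MonObj.one_comp]⟩)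
    (fun T a b ⟨z, hz⟩ ⟨z', hz'⟩ => ⟨z * z', by rw [MonObj.mul_comp, MonObj.mul_comp, hz, hz']⟩)
    (fun T a ⟨z, hz⟩ => ⟨z⁻¹, by rw [GrpObj.inv_comp, GrpObj.inv_comp, hz]⟩)
  haveI := hp
  have : IsMonHom d := by
    have : IsMonHom (d ≫ j) := by
      rw [show d ≫ j = p ≫ f from pullback.condition.symm]
      exact inferInstanceAs (IsMonHom (_ ≫ _))
    exact Groth.URad.isMonHom_of_comp_mono d j
  have : LocallyOfFiniteType P.hom := by rw [← Over.w p]; infer_instance
  -- its reduced subgroup and the neutral component of that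
  obtain ⟨Z, _, c, hc, hcc, hcs, hZs, -⟩ := Groth.AlgGrp1.exists_reduced_subgroup_lft P
  haveI := hcc; haveI := hcs; haveI := hZs; haveI := hc
  obtain ⟨U, _, k, hk, hko, -, hUc⟩ := Groth.GrpschAbsch.NeutralSet.exists_neutral_openSubgroup Z
  haveI := hk; haveI := hko
  have : IsClosedImmersion k.left :=
    IsClosedImmersion.of_isPreimmersion _ (Groth.AlgGrp1.isClosed_range_of_openSubgroup k)
  have : Smooth U.hom := by rw [← Over.w k]; infer_instance
  let i : U ⟶ G := k ≫ c ≫ p
  let g : U ⟶ V := k ≫ c ≫ d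
  have : IsClosedImmersion i.left := inferInstanceAs (IsClosedImmersion (k.left ≫ c.left ≫ p.left))
  have : IsFinite g.left := inferInstanceAs (IsFinite (k.left ≫ c.left ≫ d.left))
  have : Surjective g.left := by
    have : IsMonHom (c ≫ d) := inferInstanceAs (IsMonHom (_ ≫ _))
    have : Surjective (c ≫ d).left := inferInstanceAs (Surjective (c.left ≫ d.left))
    have : QuasiCompact (c ≫ d).left := inferInstanceAs (QuasiCompact (c.left ≫ d.left))
    have : IsReduced V.left := Groth.AlgGrp1.isReduced_of_smooth V.hom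
    have : Flat (c ≫ d).left := Groth.AlgGrp1.flat_of_surjective_hom (c ≫ d)
    have : Smooth (k.left ≫ Z.hom) := by rw [Over.w]; infer_instance
    have : LocallyOfFinitePresentation g.left := Groth.AlgGrp1.lfp_left g
    have : Flat g.left := inferInstanceAs (Flat (k.left ≫ (c ≫ d).left))
    have hcl : IsClopen (Set.range g.left.base) :=
      ⟨g.left.isClosedMap.isClosed_range, g.left.isOpenMap.isOpen_range⟩
    exact ⟨Set.range_eq_univ.1 (hcl.eq_univ (Set.range_nonempty _))⟩
  refine ⟨U, inferInstance, i, g, inferInstanceAs (IsMonHom (_ ≫ _)), inferInstance, inferInstance, ?_, hUc,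
    inferInstanceAs (IsMonHom (_ ≫ _)), inferInstance, inferInstance, fun hV => isAffine_of_isAffineHom g.left⟩
  rw [← Over.w i]; infer_instance

include f in
/-- A property of smooth connected groups invariant under isogenies passes to subgroups along an isogeny. -/
theorem exists_sub_iff [Surjective f.left] (P : ∀ (U : Over (Spec (CommRingCat.of K))) [GrpObj U], Prop)
    (hP : ∀ (U V : Over (Spec (CommRingCat.of K))) [GrpObj U] [GrpObj V] [Smooth U.hom] [Smooth V.hom]
      [QuasiCompact U.hom] [QuasiCompact V.hom] [ConnectedSpace U.left] [ConnectedSpace V.left] (g : U ⟶ V)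
      [IsMonHom g] [IsFinite g.left] [Surjective g.left],
      (IsAffine U.left → IsAffine V.left) → (IsAffine V.left → IsAffine U.left) → (P U ↔ P V)) (d : ℕ) :
    (∃ (U : Over (Spec (CommRingCat.of K))) (_ : GrpObj U) (i : U ⟶ G), IsMonHom i ∧ IsClosedImmersion i.left ∧
        Smooth U.hom ∧ ConnectedSpace ↥U.left ∧ P U ∧ (d : WithBot ℕ∞) ≤ topologicalKrullDim ↥U.left) ↔
    (∃ (U : Over (Spec (CommRingCat.of K))) (_ : GrpObj U) (i : U ⟶ H), IsMonHom i ∧ IsClosedImmersion i.left ∧
        Smooth U.hom ∧ ConnectedSpace ↥U.left ∧ P U ∧ (d : WithBot ℕ∞) ≤ topologicalKrullDim ↥U.left) := by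
  constructor
  · rintro ⟨U, _, i, hi, hic, hs, hc, hU, hd⟩
    obtain ⟨V, _, j, g, hj, hjc, hVs, hVq, hVc, hg, hgf, hgs, ha⟩ := exists_image_sub f i
    have : QuasiCompact U.hom := by rw [← Over.w i]; infer_instance
    exact ⟨V, _, j, hj, hjc, hVs, hVc, (hP U V g ha (fun _ => isAffine_of_isAffineHom g.left)).1 hU,
      topologicalKrullDim_eq_of_finite g.left ▸ hd⟩
  · rintro ⟨V, _, j, hj, hjc, hs, hc, hV, hd⟩
    obtain ⟨U, _, i, g, hi, hic, hUs, hUq, hUc, hg, hgf, hgs, ha⟩ := exists_preimage_sub f j
    have : QuasiCompact V.hom := by rw [← Over.w j]; infer_instance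
    refine ⟨U, _, i, hi, hic, hUs, hUc, (hP U V g ?_ ha).2 hV, (topologicalKrullDim_eq_of_finite g.left).symm ▸ hd⟩
    intro _
    have := LocallyOfFiniteType.isLocallyNoetherian V.hom
    have : CompactSpace V.left := QuasiCompact.compactSpace_of_compactSpace V.hom
    have : IsNoetherian V.left := ⟨⟩
    exact Groth.FlatMor2.Chevalley.isAffine_of_finite_surjective g.left

end Groth.AlgGrpIsog
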