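import Groth.Agent.AlgGrpIsog.SubDim
import Groth.Agent.GrpschAbsch.BcPoint
import Groth.Agent.AlgGrp1.BorelExist

/-!
The dimension bounds of solvable and unipotent subgroups are isogeny invariants.
-/

set_option autoImplicit false
set_option linter.style.haveILetI false
universe u

open CategoryTheory Limits MonoidalCategory CartesianMonoidalCategory MonObj GrpObj AlgebraicGeometry

noncomputable section

namespace Groth.AlgGrpIsog

section AlgClosed

variable {K : Type u} [Field K] [IsAlgClosed K]

/-- Solvability is detected on rational points. -/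
theorem isSolvableGrp_iff_pts (U : Over (Spec (CommRingCat.of K))) [GrpObj U] [Smooth U.hom] [QuasiCompact U.hom]
    [ConnectedSpace U.left] :
    Red.IsSolvableGrp U ↔ Group.IsSolvable (𝟙_ (Over (Spec (CommRingCat.of K))) ⟶ U) := by
  constructor
  · rintro ⟨n, hn⟩
    exact ⟨⟨n, hn _⟩⟩
  · intro h
    obtain ⟨n, hn⟩ := h.solvable
    exact Groth.AlgGrp1.isSolvableGrp_of_derivedSeries n U hn

/-- Isogenies preserve and reflect solvability. -/
theorem isSolvableGrp_iff_of_isogeny {U V : Over (Spec (CommRingCat.of K))} [GrpObj U] [GrpObj V] [Smooth U.hom]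
    [Smooth V.hom] [QuasiCompact U.hom] [QuasiCompact V.hom] [ConnectedSpace U.left] [ConnectedSpace V.left]
    (g : U ⟶ V) [IsMonHom g] [IsFinite g.left] [Surjective g.left] :
    Red.IsSolvableGrp U ↔ Red.IsSolvableGrp V := by
  rw [isSolvableGrp_iff_pts, isSolvableGrp_iff_pts, isSolvable_iff g]

end AlgClosed

variable {k : Type u} [Field k]

local notation "φ̄" => Spec.map (CommRingCat.ofHom (algebraMap k (AlgebraicClosure k)))

variable (G H : Over (Spec (CommRingCat.of k))) [GrpObj G] [LocallyOfFiniteType G.hom] [QuasiCompact G.hom]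
  [GrpObj H] [LocallyOfFiniteType H.hom] [QuasiCompact H.hom]
  (f : G ⟶ H) [IsMonHom f] [Surjective f.left] [IsFinite f.left]

include f in
/-- Existence of subgroups with an isogeny invariant property over the algebraic closure. -/
theorem exists_sub_bc_iff (P : ∀ (U : Over (Spec (CommRingCat.of (AlgebraicClosure k)))) [GrpObj U], Prop)
    (hP : ∀ (U V : Over (Spec (CommRingCat.of (AlgebraicClosure k)))) [GrpObj U] [GrpObj V] [Smooth U.hom]
      [Smooth V.hom] [QuasiCompact U.hom] [QuasiCompact V.hom] [ConnectedSpace U.left] [ConnectedSpace V.left]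
      (g : U ⟶ V) [IsMonHom g] [IsFinite g.left] [Surjective g.left],
      (IsAffine U.left → IsAffine V.left) → (IsAffine V.left → IsAffine U.left) → (P U ↔ P V)) (d : ℕ) :
    (∃ (U : Over (Spec (CommRingCat.of (AlgebraicClosure k)))) (_ : GrpObj U) (i : U ⟶ Red.bc φ̄ G), IsMonHom i ∧
        IsClosedImmersion i.left ∧ Smooth U.hom ∧ ConnectedSpace ↥U.left ∧ P U ∧
        (d : WithBot ℕ∞) ≤ topologicalKrullDim ↥U.left) ↔
    (∃ (U : Over (Spec (CommRingCat.of (AlgebraicClosure k)))) (_ : GrpObj U) (i : U ⟶ Red.bc φ̄ H), IsMonHom i ∧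
        IsClosedImmersion i.left ∧ Smooth U.hom ∧ ConnectedSpace ↥U.left ∧ P U ∧
        (d : WithBot ℕ∞) ≤ topologicalKrullDim ↥U.left) := by
  let f' : Red.bc φ̄ G ⟶ Red.bc φ̄ H := (Over.pullback φ̄).map f
  haveI : IsMonHom f' := Groth.Abvar.isMonHom_map (f := φ̄) f
  have sq := Groth.AlgGrp1.isPullback_bc_map φ̄ f
  haveI : Surjective f'.left := MorphismProperty.of_isPullback sq ‹Surjective f.left›
  haveI : IsFinite f'.left := MorphismProperty.of_isPullback sq ‹IsFinite f.left›
  haveI : LocallyOfFiniteType (Red.bc φ̄ G).hom := inferInstanceAs (LocallyOfFiniteType (pullback.snd G.hom φ̄))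
  haveI : LocallyOfFiniteType (Red.bc φ̄ H).hom := inferInstanceAs (LocallyOfFiniteType (pullback.snd H.hom φ̄))
  haveI : QuasiCompact (Red.bc φ̄ G).hom := inferInstanceAs (QuasiCompact (pullback.snd G.hom φ̄))
  haveI : QuasiCompact (Red.bc φ̄ H).hom := inferInstanceAs (QuasiCompact (pullback.snd H.hom φ̄))
  exact exists_sub_iff f' P hP d

end Groth.AlgGrpIsog
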