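import Groth.Agent.AlgGrpIsog.UnipTorus
import Groth.Agent.AlgGrp1.MaxTorusSolv
import Groth.Agent.AlgGrp1.NormalizerBorel
import Groth.Agent.AlgGrp1.ImageHom
import Groth.Agent.AlgGrp1.TorusField
import Groth.Agent.NeronArea.IsogenyModel
import Groth.Agent.GrpschAbsch.FibreFlat
import Groth.Agent.AlgGrp1.GenSubgroup

/-!
Isogenies of commutative affine groups preserve and reflect tori.
-/

set_option autoImplicit false
set_option linter.style.haveILetI false
universe u

open CategoryTheory Limits MonoidalCategory CartesianMonoidalCategory MonObj GrpObj AlgebraicGeometry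

noncomputable section

namespace Groth.AlgGrpIsog

section AlgClosed

variable {K : Type u} [Field K] [IsAlgClosed K] {G' G : Over (Spec (CommRingCat.of K))} [GrpObj G'] [GrpObj G]
  [Smooth G'.hom] [Smooth G.hom] [QuasiCompact G'.hom] [QuasiCompact G.hom] [IsAffine G'.left] [IsAffine G.left]
  [ConnectedSpace G'.left] [ConnectedSpace G.left] (f : G' ⟶ G) [IsMonHom f] [IsFinite f.left] [Surjective f.left]

include f in
/-- Isogenies of commutative groups preserve and reflect tori. -/
theorem isTorus_iff_of_isogeny [IsCommMonObj G'] [IsCommMonObj G] : Red.IsTorus G' ↔ Red.IsTorus G := by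
  constructor
  · intro h
    haveI : IsReduced G.left := Groth.AlgGrp1.isReduced_of_smooth G.hom
    haveI : Flat f.left := Groth.AlgGrp1.flat_of_surjective_hom f
    exact Groth.AlgGrp1.isTorus_of_surjective_hom h f fun X a b => _root_.mul_comm a b
  · intro h
    haveI : IsReduced G'.left := Groth.AlgGrp1.isReduced_of_smooth G'.hom
    obtain ⟨S, _, iS, π, hiS, hπ, hret, hci, hS, habs⟩ := Groth.AlgGrp1.exists_torus_absorbing' G'
      ⟨1, fun X => by
        rw [derivedSeries_one, eq_bot_iff, commutator_def, Subgroup.commutator_le]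
        intro p _ q _
        rw [Subgroup.mem_bot, commutatorElement_eq_one_iff_mul_comm]
        exact _root_.mul_comm p q⟩
    haveI := hiS; haveI := hπ; haveI := hci
    haveI : IsMonHom (π ≫ iS) := inferInstanceAs (IsMonHom (_ ≫ _))
    let q : G' ⟶ G' := 𝟙 G' * (π ≫ iS)⁻¹
    haveI : IsMonHom q := Groth.AlgGrp1.isMonHom_of_points q fun T u v => by
      simp only [q, MonObj.comp_mul, GrpObj.comp_inv, Category.comp_id, MonObj.mul_comp]
      rw [_root_.mul_inv, _root_.mul_mul_mul_comm]
    have hqπ : q ≫ π = 1 := by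
      simp only [q, MonObj.mul_comp, GrpObj.inv_comp, Category.id_comp, Category.assoc, hret, Category.comp_id,
        mul_inv_cancel]
    obtain ⟨Q, _, c, g, hc, hcc, hg, hlft, hqc, hfl, hsur, hgc⟩ := Groth.AlgGrp1.exists_image_hom q
    haveI := hc; haveI := hcc; haveI := hg
    haveI : Smooth Q.hom := Groth.AlgGrp1.smooth_of_flat_surjective_hom g
    haveI : ConnectedSpace Q.left := Groth.AlgGrp1.connectedSpace_of_surjective g
    haveI : IsReduced Q.left := Groth.AlgGrp1.isReduced_of_smooth Q.hom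
    haveI : IsAffine Q.left := isAffine_of_isAffineHom c.left
    obtain ⟨hSa, hSs, hSc⟩ := Groth.AlgGrp1.isAffine_smooth_connected_of_isTorus hS
    have hcπ : c ≫ π = 1 := by
      refine Groth.AbVarMul.eq_of_points fun z => ?_
      obtain ⟨y, rfl⟩ := Groth.AlgGrp1.exists_rpt_lift g z (g.left.surjective _)
      rw [Category.assoc, ← Category.assoc g c π, hgc, hqπ, MonObj.comp_one, MonObj.comp_one]
    have hQ : Red.HasNoSubtorus K Q := by
      intro T _ j _ hj hT
      haveI : IsMonHom (j ≫ c) := inferInstanceAs (IsMonHom (_ ≫ _))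
      obtain ⟨b, w, hw⟩ := habs T (j ≫ c) hT
      have hconj : AGF.conjBy b (j ≫ c) = j ≫ c := by
        unfold AGF.conjBy
        rw [_root_.mul_comm (toUnit T ≫ b) (j ≫ c), mul_inv_cancel_right]
      rw [hconj] at hw
      have hw1 : w = 1 := by
        have := congrArg (· ≫ π) hw
        simpa only [Category.assoc, hret, Category.comp_id, hcπ, MonObj.comp_one] using this
      have hj1 : j ≫ c = 1 := by rw [← hw, hw1, MonObj.one_comp]
      haveI : Mono c := Over.mono_of_mono_left c
      have hj2 : j = 1 := by rw [← cancel_mono c, hj1, MonObj.one_comp]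
      have h3 : 𝟙 T = 1 := by
        haveI := hj
        haveI : Mono j := Over.mono_of_mono_left j
        rw [← cancel_mono j, MonObj.one_comp, Category.id_comp, hj2]
      show IsIso T.hom
      refine ⟨η[T].left, ?_, Over.w η[T]⟩
      exact (congrArg CommaMorphism.left h3).symm
    haveI : IsMonHom (c ≫ f) := inferInstanceAs (IsMonHom (_ ≫ _))
    have hcf : c ≫ f = 1 := hom_torus_eq_one (Groth.URad.isUnip_of_hasNoSubtorus Q hQ) h _
    have hc1 : c = 1 := eq_one_of_comp_eq_one f c hcf 1 (by rw [MonObj.one_comp])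
    have hq1 : q = 1 := by rw [← hgc, hc1, MonObj.comp_one]
    have hid : π ≫ iS = 𝟙 G' := by
      have := mul_inv_eq_one.1 hq1
      exact this.symm
    exact Groth.AlgGrp1.isTorus_of_iso ⟨iS, π, hret, hid⟩ hiS hS

end AlgClosed

variable {k : Type u} [Field k]

/-- Being a torus descends from an algebraic closure. -/
theorem isTorus_of_bc_algClosure (T : Over (Spec (CommRingCat.of k))) [GrpObj T]
    (h : Red.IsTorus (Red.bc (Spec.map (CommRingCat.ofHom (algebraMap k (AlgebraicClosure k)))) T)) :
    Red.IsTorus T := by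
  obtain ⟨r, e, he⟩ := Groth.AlgGrp1.exists_diag_iso_of_isTorus h
  let L := AlgebraicClosure k
  let φ := Groth.AlgGrp2.str k L
  have hs : Surjective φ := ⟨fun x => ⟨IsLocalRing.closedPoint L, Subsingleton.elim (α := ↥(Spec (CommRingCat.of k))) _ _⟩⟩
  have hf : Flat φ := Flat.SpecMap_iff.mpr (RingHom.flat_algebraMap_iff.mpr inferInstance)
  refine ⟨Spec (CommRingCat.of L), φ, hf, hs, fun V hV => ⟨_,
    (hV.preimage φ).isCompact, Set.image_preimage_eq _ hs.surj⟩, fun s' => ⟨⊤, trivial, r, ?_⟩⟩
  let e0 : Red.diag L (Fin r → ℤ) ≅ Red.bc φ T := e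
  haveI : IsMonHom e0.hom := he
  let e' : Red.DS (Spec (CommRingCat.of L)) (Fin r → ℤ) ≅ Red.bc φ T :=
    (Groth.AlgGrp2.diagIsoDS L (Fin r → ℤ)).symm ≪≫ e0
  haveI : IsMonHom e'.hom := by
    simp only [e', Iso.trans_hom, Iso.symm_hom]
    infer_instance
  obtain ⟨i, hi⟩ := Groth.Reductive.FreeDiag.exists_trivialisation_comp T
    (⊤ : (Spec (CommRingCat.of L)).Opens).ι φ e'
  haveI := hi
  exact ⟨(Grp.mkIso' i).symm⟩

/-- An isogeny of commutative affine groups preserves and reflects tori. -/
theorem isTorus_iff_of_isogenyOver (G' G : Over (Spec (CommRingCat.of k))) [GrpObj G'] [GrpObj G] [IsCommMonObj G']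
    [IsCommMonObj G] [Smooth G'.hom] [QuasiCompact G'.hom] [ConnectedSpace ↥G'.left] [IsAffine G'.left]
    [Smooth G.hom] [QuasiCompact G.hom] [ConnectedSpace ↥G.left] [IsAffine G.left]
    (f : G' ⟶ G) [IsMonHom f] (hf : SGA7.IsIsogenyOver f) : Red.IsTorus G' ↔ Red.IsTorus G := by
  haveI : Surjective f.left := hf.1
  haveI : GeometricallyReduced G.hom := Groth.AlgGrp1.geometricallyReduced_of_smooth_hom G
  haveI : QuasiCompact f.left := inferInstance
  haveI := Groth.GrpschAbsch.FibreFlat.flat_of_surjective_field f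
  haveI : IsFinite f.left := by
    obtain ⟨N, n, _, hN⟩ := Groth.Agf.exists_preimage f η[G]
    haveI : Mono n := Over.mono_of_mono_left n
    have hk : AlgGrp.IsKernel n f := Groth.AlgGrp1.IsKernel.mk' ‹Mono n› fun T g => by
      rw [hN]
      constructor
      · rintro ⟨x, hx⟩
        rw [hx, toUnit_unique x (toUnit T)]; rfl
      · intro h
        exact ⟨toUnit T, h⟩
    exact Groth.AlgGrp1.IsKernel.descends hk @IsFinite (hf.2 N n hk)
  let φ := Spec.map (CommRingCat.ofHom (algebraMap k (AlgebraicClosure k)))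
  let f' : Red.bc φ G' ⟶ Red.bc φ G := (Over.pullback φ).map f
  haveI : IsMonHom f' := Groth.Abvar.isMonHom_map (f := φ) f
  have sq := Groth.AlgGrp1.isPullback_bc_map φ f
  haveI : Surjective f'.left := MorphismProperty.of_isPullback sq ‹Surjective f.left›
  haveI : IsFinite f'.left := MorphismProperty.of_isPullback sq ‹IsFinite f.left›
  have p : ∀ (X : Over (Spec (CommRingCat.of k))) [GrpObj X] [Smooth X.hom] [QuasiCompact X.hom] [IsAffine X.left]
      [ConnectedSpace ↥X.left], Smooth (Red.bc φ X).hom ∧ QuasiCompact (Red.bc φ X).hom ∧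
        IsAffine (Red.bc φ X).left ∧ ConnectedSpace ↥(Red.bc φ X).left := fun X _ _ _ _ _ =>
    ⟨inferInstanceAs (Smooth (pullback.snd X.hom φ)), inferInstanceAs (QuasiCompact (pullback.snd X.hom φ)),
      inferInstanceAs (IsAffine (pullback X.hom φ)),
      Groth.AlgGrp1.connectedSpace_pullback_of_isIntegral X.hom η[X].left (Over.w η[X])⟩
  obtain ⟨h1, h2, h3, h4⟩ := p G'
  obtain ⟨h5, h6, h7, h8⟩ := p G
  have hc : ∀ (X : Over (Spec (CommRingCat.of k))) [GrpObj X] [IsCommMonObj X], IsCommMonObj (Red.bc φ X) :=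
    fun X _ _ => inferInstanceAs (IsCommMonObj ((Over.pullback φ).obj X))
  haveI := hc G'; haveI := hc G
  have key := isTorus_iff_of_isogeny f'
  exact ⟨fun h => isTorus_of_bc_algClosure G (key.1 (Groth.AlgGrp1.isTorus_bc φ h)),
    fun h => isTorus_of_bc_algClosure G' (key.2 (Groth.AlgGrp1.isTorus_bc φ h))⟩

end Groth.AlgGrpIsog
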